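import Mathlib
import Groth.Agent.Hensel.IntegralStrict

/-!
Rigidity of changes of variables of elliptic Weierstrass curves, and isomorphisms over complete local domains.
-/

set_option autoImplicit false
set_option linter.style.haveILetI false

namespace Groth.Agent.WeierIsom

universe u

open IsLocalRing WeierstrassCurve

/-- The linearised system has only the zero solution, modulo anything killed by the maximal ideal. -/
theorem lin_zero {Q : Type u} [CommRing Q] [IsLocalRing Q] (W : WeierstrassCurve Q) [W.IsElliptic]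
    (e r s t : Q) (hm : ∀ m : Q, ¬IsUnit m → m * e = 0 ∧ m * r = 0 ∧ m * s = 0 ∧ m * t = 0)
    (q1 : W.a₁ * e - 2 * s = 0) (q2 : 2 * W.a₂ * e + s * W.a₁ - 3 * r = 0)
    (q3 : 3 * W.a₃ * e - r * W.a₁ - 2 * t = 0)
    (q4 : 4 * W.a₄ * e + s * W.a₃ - 2 * r * W.a₂ + t * W.a₁ = 0)
    (q6 : 6 * W.a₆ * e - r * W.a₄ + t * W.a₃ = 0) :
    e = 0 ∧ r = 0 ∧ s = 0 ∧ t = 0 := by
  have hΔ : (W.map (residue Q)).Δ ≠ 0 := by
    rw [W.map_Δ]
    exact (W.isUnit_Δ.map (residue Q)).ne_zero
  have hres : ∀ m : Q, ¬IsUnit m → residue Q m = 0 := fun m hm' => by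
    rwa [residue_eq_zero_iff, IsLocalRing.mem_maximalIdeal, mem_nonunits_iff]
  by_cases h2 : IsUnit (2 : Q)
  · have B2 : 2 * W.b₂ * e - 12 * r = 0 := by
      simp only [WeierstrassCurve.b₂]
      linear_combination 2 * W.a₁ * q1 + 4 * q2
    have B4 : 4 * W.b₄ * e - r * W.b₂ = 0 := by
      simp only [WeierstrassCurve.b₂, WeierstrassCurve.b₄]
      linear_combination W.a₃ * q1 + W.a₁ * q3 + 2 * q4
    have B6 : 6 * W.b₆ * e - 2 * W.b₄ * r = 0 := by
      simp only [WeierstrassCurve.b₄, WeierstrassCurve.b₆]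
      linear_combination 2 * W.a₃ * q3 + 4 * q6
    have h4 : IsUnit (4 : Q) := by
      convert h2.mul h2 using 1
      norm_num
    have her : e = 0 ∧ r = 0 := by
      by_cases h3 : IsUnit (3 : Q)
      · have h12 : IsUnit (12 : Q) := by
          convert h4.mul h3 using 1
          norm_num
        have hc4 : W.c₄ * e = 0 := by
          refine (h2.mul_right_eq_zero).1 ?_
          simp only [WeierstrassCurve.c₄]
          linear_combination W.b₂ * B2 - 12 * B4
        have hc6 : W.c₆ * e = 0 := by
          refine (h2.mul_right_eq_zero).1 ?_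
          have : (2 * (36 * W.b₆ - 2 * W.b₂ * W.b₄)) * e = 0 := by
            linear_combination 12 * B6 - 2 * W.b₄ * B2
          simp only [WeierstrassCurve.c₄, WeierstrassCurve.c₆] at hc4 ⊢
          linear_combination -6 * this - 2 * W.b₂ * hc4
        have hU : IsUnit (1728 * W.Δ) := by
          refine IsUnit.mul ?_ W.isUnit_Δ
          convert h12.pow 3 using 1
          norm_num
        have he : e = 0 := by
          refine (hU.mul_right_eq_zero).1 ?_
          linear_combination e * W.c_relation + W.c₄ ^ 2 * hc4 - W.c₆ * hc6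
        refine ⟨he, (h12.mul_right_eq_zero).1 ?_⟩
        rw [he] at B2
        linear_combination -B2
      · have hr3 : 3 * r = 0 := (hm 3 h3).2.1
        have h0 : W.b₂ * e = 0 := (h2.mul_right_eq_zero).1 (by linear_combination B2 + 4 * hr3)
        by_cases hb : IsUnit W.b₂
        · have he : e = 0 := (hb.mul_right_eq_zero).1 h0
          rw [he] at B4
          exact ⟨he, (hb.mul_right_eq_zero).1 (by linear_combination -B4)⟩
        · haveI : CharP (ResidueField Q) 3 := by
            refine CharP.ringChar_of_prime_eq_zero (R := ResidueField Q) Nat.prime_three ?_ ▸ ringChar.charP _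
            rw [Nat.cast_ofNat, ← map_ofNat (residue Q) 3]
            exact hres 3 h3
          have hb4 : IsUnit W.b₄ := by
            by_contra hb4
            apply hΔ
            rw [WeierstrassCurve.Δ_of_char_three, W.map_b₂, W.map_b₄, W.map_b₈, hres _ hb, hres _ hb4]
            ring
          have hrb : W.b₂ * r = 0 := (hm _ hb).2.1
          have he : e = 0 := ((h4.mul hb4).mul_right_eq_zero).1 (by linear_combination B4 + hrb)
          rw [he] at B6
          exact ⟨he, ((h2.mul hb4).mul_right_eq_zero).1 (by linear_combination -B6)⟩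
    obtain ⟨he, hr⟩ := her
    rw [he] at q1 q3
    rw [hr] at q3
    exact ⟨he, hr, (h2.mul_right_eq_zero).1 (by linear_combination -q1),
      (h2.mul_right_eq_zero).1 (by linear_combination -q3)⟩
  · obtain ⟨de, dr, ds, dt⟩ := hm 2 h2
    by_cases h1 : IsUnit W.a₁
    · have he : e = 0 := (h1.mul_right_eq_zero).1 (by linear_combination q1 + ds)
      subst he
      have hr : r = 0 := (h1.mul_right_eq_zero).1 (by linear_combination -q3 - dt)
      subst hr
      have hs : s = 0 := (h1.mul_right_eq_zero).1 (by linear_combination q2)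
      subst hs
      exact ⟨rfl, rfl, rfl, (h1.mul_right_eq_zero).1 (by linear_combination q4)⟩
    · obtain ⟨ae, ar, as_, at_⟩ := hm _ h1
      haveI : CharP (ResidueField Q) 2 := by
        refine CharP.ringChar_of_prime_eq_zero (R := ResidueField Q) Nat.prime_two ?_ ▸ ringChar.charP _
        rw [Nat.cast_ofNat, ← map_ofNat (residue Q) 2]
        exact hres 2 h2
      have h3' : IsUnit W.a₃ := by
        by_contra h3'
        apply hΔ
        rw [WeierstrassCurve.Δ_of_char_two]
        show residue Q W.a₁ ^ 4 * _ + residue Q W.a₃ ^ 4 + residue Q W.a₁ ^ 3 * _ = 0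
        rw [hres _ h1, hres _ h3']
        ring
      have hr : r = 0 := by linear_combination -q2 + W.a₂ * de + as_ - dr
      subst hr
      have he : e = 0 := (h3'.mul_right_eq_zero).1 (by linear_combination q3 - W.a₃ * de + dt)
      subst he
      have hs : s = 0 := (h3'.mul_right_eq_zero).1 (by linear_combination q4 - at_)
      exact ⟨rfl, rfl, hs, (h3'.mul_right_eq_zero).1 (by linear_combination q6)⟩

/-- A change of variables fixing an elliptic curve over a local ring and congruent to `1` is `1`. -/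
theorem eq_one_of_smul_eq {R : Type u} [CommRing R] [IsLocalRing R] (W : WeierstrassCurve R) [W.IsElliptic]
    (C : VariableChange R) (h : C • W = W) (he : (C.u : R) - 1 ∈ maximalIdeal R) (hr : C.r ∈ maximalIdeal R)
    (hs : C.s ∈ maximalIdeal R) (ht : C.t ∈ maximalIdeal R) : C = 1 := by
  let e : R := (C.u : R) - 1
  let I : Ideal R := Ideal.span {e, C.r, C.s, C.t}
  have ei : e ∈ I := Ideal.subset_span (by simp)
  have ri : C.r ∈ I := Ideal.subset_span (by simp)
  have si : C.s ∈ I := Ideal.subset_span (by simp)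
  have ti : C.t ∈ I := Ideal.subset_span (by simp)
  let J : Ideal R := maximalIdeal R * I
  suffices hI : I ≤ J by
    have h0 : I = ⊥ := Submodule.eq_bot_of_le_smul_of_le_jacobson_bot (maximalIdeal R) I
      (Submodule.fg_span (Set.toFinite _)) hI (maximalIdeal_le_jacobson _)
    rw [h0] at ei ri si ti
    exact VariableChange.ext (Units.ext (sub_eq_zero.1 (Ideal.mem_bot.1 ei))) (Ideal.mem_bot.1 ri)
      (Ideal.mem_bot.1 si) (Ideal.mem_bot.1 ti)
  have hJ : J ≠ ⊤ := fun hJ => (maximalIdeal.isMaximal R).ne_top (top_unique (hJ ▸ Ideal.mul_le_left))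
  haveI : Nontrivial (R ⧸ J) := Ideal.Quotient.nontrivial_iff.2 hJ
  let q := Ideal.Quotient.mk J
  haveI : IsLocalRing (R ⧸ J) := IsLocalRing.of_surjective' q Ideal.Quotient.mk_surjective
  have hu : ∀ k : ℕ, ∀ a b : R, ((C.u⁻¹ : Rˣ) : R) ^ k * a = b → a = (1 + e) ^ k * b := fun k a b hk => by
    rw [← hk, ← mul_assoc, ← mul_pow]
    simp [e]
  have hz : ∀ {x : R}, x ∈ I → x ∈ maximalIdeal R := fun {x} hx => by
    refine Ideal.span_le.2 ?_ hx
    intro y hy
    simp only [Set.mem_insert_iff, Set.mem_singleton_iff] at hy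
    rcases hy with rfl | rfl | rfl | rfl <;> assumption
  have h2 : ∀ {x y : R}, x ∈ I → y ∈ I → q x * q y = 0 := fun {x y} hx hy => by
    rw [← map_mul]
    exact Ideal.Quotient.eq_zero_iff_mem.2 (Ideal.mul_mem_mul (hz hx) hy)
  have g1 := congrArg q (hu 1 _ _ (by simpa [variableChange_def] using congrArg WeierstrassCurve.a₁ h))
  have g2 := congrArg q (hu 2 _ _ (congrArg WeierstrassCurve.a₂ h))
  have g3 := congrArg q (hu 3 _ _ (congrArg WeierstrassCurve.a₃ h))
  have g4 := congrArg q (hu 4 _ _ (congrArg WeierstrassCurve.a₄ h))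
  have g6 := congrArg q (hu 6 _ _ (congrArg WeierstrassCurve.a₆ h))
  simp only [map_mul, map_add, map_sub, map_pow, map_one, map_ofNat] at g1 g2 g3 g4 g6
  have ee := h2 ei ei
  have hr2 := h2 ri ri
  have hs2 := h2 si si
  have ht2 := h2 ti ti
  have hrs := h2 ri si
  have hst := h2 si ti
  have hrt := h2 ri ti
  obtain ⟨z1, z2, z3, z4⟩ := lin_zero (W.map q) (q e) (q C.r) (q C.s) (q C.t) (fun m hm => by
    obtain ⟨m, rfl⟩ := Ideal.Quotient.mk_surjective m
    have hm' : m ∈ maximalIdeal R := fun hu' => hm (hu'.map q)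
    refine ⟨?_, ?_, ?_, ?_⟩ <;> rw [← map_mul] <;>
      refine Ideal.Quotient.eq_zero_iff_mem.2 (Ideal.mul_mem_mul hm' ?_) <;> assumption)
    (by simp only [WeierstrassCurve.map]; linear_combination -g1)
    (by simp only [WeierstrassCurve.map]; linear_combination -g2 - q W.a₂ * ee - hs2)
    (by simp only [WeierstrassCurve.map]; linear_combination -g3 - q W.a₃ * (3 + q e) * ee)
    (by simp only [WeierstrassCurve.map]
        linear_combination -g4 - q W.a₄ * (6 + 4 * q e + q e ^ 2) * ee + 3 * hr2 - 2 * hst - q W.a₁ * hrs)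
    (by simp only [WeierstrassCurve.map]
        linear_combination -g6 - q W.a₆ * (15 + 20 * q e + 15 * q e ^ 2 + 6 * q e ^ 3 + q e ^ 4) * ee
          + (q W.a₂ + q C.r) * hr2 - ht2 - q W.a₁ * hrt)
  refine Ideal.span_le.2 ?_
  intro y hy
  simp only [Set.mem_insert_iff, Set.mem_singleton_iff] at hy
  rcases hy with rfl | rfl | rfl | rfl <;> exact Ideal.Quotient.eq_zero_iff_mem.1 (by assumption)

/-- An element satisfying a depressed monic quartic with integral coefficients is integral. -/
theorem isIntegral_of_quartic {R K : Type u} [CommRing R] [CommRing K] [Algebra R K] {x a b c : K}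
    (ha : IsIntegral R a) (hb : IsIntegral R b) (hc : IsIntegral R c) (h : x ^ 4 = a * x ^ 2 + b * x + c) :
    IsIntegral R x := by
  let S := integralClosure R K
  refine isIntegral_trans (A := S) x ⟨Polynomial.X ^ 4 - (Polynomial.C (⟨a, ha⟩ : S) * Polynomial.X ^ 2
    + Polynomial.C (⟨b, hb⟩ : S) * Polynomial.X + Polynomial.C (⟨c, hc⟩ : S)), ?_, ?_⟩
  · refine Polynomial.monic_X_pow_sub ?_
    refine lt_of_le_of_lt Polynomial.degree_quadratic_le ?_
    norm_num
  · simp only [Polynomial.eval₂_sub, Polynomial.eval₂_pow, Polynomial.eval₂_X, Polynomial.eval₂_add,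
      Polynomial.eval₂_mul, Polynomial.eval₂_C]
    show x ^ 4 - (a * x ^ 2 + b * x + c) = 0
    rw [h, sub_self]

/-- An element satisfying a monic quadratic with integral coefficients is integral. -/
theorem isIntegral_of_quadratic {R K : Type u} [CommRing R] [CommRing K] [Algebra R K] {x a b : K}
    (ha : IsIntegral R a) (hb : IsIntegral R b) (h : x ^ 2 + a * x = b) :
    IsIntegral R x := by
  refine isIntegral_of_quartic (a := a ^ 2 + b) (b := -(a * b)) (c := 0) ((ha.pow 2).add hb) ((ha.mul hb).neg)
    isIntegral_zero ?_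
  linear_combination (x ^ 2 - a * x) * h

theorem henselianLocalRing_of_isAdicComplete (R : Type u) [CommRing R] [IsLocalRing R]
    [IsAdicComplete (maximalIdeal R) R] : HenselianLocalRing R where
  is_henselian f hf a₀ h1 h2 := HenselianRing.is_henselian f hf a₀ h1 (h2.map _)

/- Over a complete local noetherian domain with algebraically closed residue field, `j` determines the curve. -/
set_option maxHeartbeats 800000 in
theorem exists_variableChange_complete (R : Type u) [CommRing R] [IsDomain R] [IsNoetherianRing R] [IsLocalRing R]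
    [IsAdicComplete (maximalIdeal R) R] [IsAlgClosed (ResidueField R)]
    (V W : WeierstrassCurve R) [V.IsElliptic] [W.IsElliptic] (hj : V.j = W.j) :
    ∃ C : VariableChange R, C • V = W := by
  haveI := henselianLocalRing_of_isAdicComplete R
  let K := SeparableClosure (FractionRing R)
  let f := algebraMap R K
  have hf : Function.Injective f := by
    show Function.Injective ((algebraMap (FractionRing R) K).comp (algebraMap R (FractionRing R)))
    exact (algebraMap (FractionRing R) K).injective.comp (IsFractionRing.injective R _)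
  obtain ⟨C₁, hC₁⟩ := exists_variableChange_of_j_eq (V.map f) (W.map f) (by rw [V.map_j, W.map_j, hj])
  have iR : ∀ x : R, IsIntegral R (f x) := fun x => isIntegral_algebraMap
  -- integrality of the coordinates
  have hΔ := congrArg WeierstrassCurve.Δ hC₁
  rw [variableChange_Δ, V.map_Δ, W.map_Δ] at hΔ
  have hiu' : IsIntegral R ((C₁.u⁻¹ : Kˣ) : K) := by
    refine IsIntegral.of_pow (n := 12) (by norm_num) ?_
    have : ((C₁.u⁻¹ : Kˣ) : K) ^ 12 = f (W.Δ * ↑(V.Δ'⁻¹ : Rˣ)) := by
      rw [map_mul, ← hΔ, mul_assoc, ← map_mul, ← V.coe_Δ', Units.mul_inv, map_one, mul_one]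
    rw [this]
    exact iR _
  have hiu : IsIntegral R (C₁.u : K) := by
    refine IsIntegral.of_pow (n := 12) (by norm_num) ?_
    have : (C₁.u : K) ^ 12 = f (V.Δ * ↑(W.Δ'⁻¹ : Rˣ)) := by
      have h1 : f V.Δ = (C₁.u : K) ^ 12 * f W.Δ := by
        rw [← hΔ, ← mul_assoc, ← mul_pow, C₁.u.mul_inv, one_pow, one_mul]
      rw [map_mul, h1, mul_assoc, ← map_mul, ← W.coe_Δ', Units.mul_inv, map_one, mul_one]
    rw [this]
    exact iR _
  have e6 := congrArg WeierstrassCurve.b₆ hC₁
  have e8 := congrArg WeierstrassCurve.b₈ hC₁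
  rw [variableChange_b₆, V.map_b₆, W.map_b₆, V.map_b₂, V.map_b₄] at e6
  rw [variableChange_b₈, V.map_b₈, W.map_b₈, V.map_b₂, V.map_b₄, V.map_b₆] at e8
  have hu : ∀ k : ℕ, ∀ a b : K, ((C₁.u⁻¹ : Kˣ) : K) ^ k * a = b → a = (C₁.u : K) ^ k * b := fun k a b hk => by
    rw [← hk, ← mul_assoc, ← mul_pow, C₁.u.mul_inv, one_pow, one_mul]
  have hir : IsIntegral R C₁.r := by
    refine isIntegral_of_quartic (a := f V.b₄) (b := 2 * f V.b₆ + (C₁.u : K) ^ 6 * f W.b₆)
      (c := f V.b₈ - (C₁.u : K) ^ 8 * f W.b₈) (iR _) ?_ ((iR _).sub ((hiu.pow 8).mul (iR _))) ?_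
    · refine IsIntegral.add ?_ ((hiu.pow 6).mul (iR _))
      rw [two_mul]
      exact (iR _).add (iR _)
    · linear_combination C₁.r * hu 6 _ _ e6 - hu 8 _ _ e8
  have k2 := hu 2 _ _ (congrArg WeierstrassCurve.a₂ hC₁)
  have k6 := hu 6 _ _ (congrArg WeierstrassCurve.a₆ hC₁)
  simp only [WeierstrassCurve.map] at k2 k6
  have i3 : IsIntegral R (3 : K) := by simpa [f, map_ofNat] using iR 3
  have his : IsIntegral R C₁.s :=
    isIntegral_of_quadratic (iR V.a₁) (b := f V.a₂ + 3 * C₁.r - (C₁.u : K) ^ 2 * f W.a₂)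
      (((iR _).add (i3.mul hir)).sub ((hiu.pow 2).mul (iR _))) (by linear_combination -k2)
  have hit : IsIntegral R C₁.t :=
    isIntegral_of_quadratic (a := f V.a₃ + C₁.r * f V.a₁) ((iR _).add (hir.mul (iR _)))
      (b := f V.a₆ + C₁.r * f V.a₄ + C₁.r ^ 2 * f V.a₂ + C₁.r ^ 3 - (C₁.u : K) ^ 6 * f W.a₆)
      (((((iR _).add (hir.mul (iR _))).add ((hir.pow 2).mul (iR _))).add (hir.pow 3)).sub
        ((hiu.pow 6).mul (iR _))) (by linear_combination -k6)
  -- the finite subalgebra they generate
  let G : Set K := {(C₁.u : K), ((C₁.u⁻¹ : Kˣ) : K), C₁.r, C₁.s, C₁.t}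
  let S : Subalgebra R K := Algebra.adjoin R G
  haveI : Module.Finite R S := ⟨(Submodule.fg_top _).mpr (fg_adjoin_of_finite (Set.toFinite _) fun x hx => by
    simp only [G, Set.mem_insert_iff, Set.mem_singleton_iff] at hx
    rcases hx with rfl | rfl | rfl | rfl | rfl <;> assumption)⟩
  haveI : IsLocalRing S := Groth.Agent.Hensel.isLocalRing_of_isIntegral_domain R S
  let uS : Sˣ := ⟨⟨(C₁.u : K), Algebra.subset_adjoin (by simp [G])⟩,
    ⟨((C₁.u⁻¹ : Kˣ) : K), Algebra.subset_adjoin (by simp [G])⟩, Subtype.ext C₁.u.mul_inv,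
    Subtype.ext C₁.u.inv_mul⟩
  let C : VariableChange S := ⟨uS, ⟨C₁.r, Algebra.subset_adjoin (by simp [G])⟩,
    ⟨C₁.s, Algebra.subset_adjoin (by simp [G])⟩, ⟨C₁.t, Algebra.subset_adjoin (by simp [G])⟩⟩
  let g := algebraMap R S
  have hC : C • V.map g = W.map g := by
    apply WeierstrassCurve.map_injective (f := S.val.toRingHom) Subtype.val_injective
    show (C • V.map g).map S.val.toRingHom = (W.map g).map S.val.toRingHom
    rw [← WeierstrassCurve.map_variableChange, WeierstrassCurve.map_map, WeierstrassCurve.map_map]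
    have hg : S.val.toRingHom.comp g = f := rfl
    rw [hg]
    convert hC₁ using 2
    ext <;> rfl
  -- residue field of `S`
  have hloc : (maximalIdeal R).map g ≤ maximalIdeal S := by
    refine IsLocalRing.le_maximalIdeal fun h => ?_
    have hcomap : (maximalIdeal S).comap g = maximalIdeal R :=
      eq_maximalIdeal (Ideal.isMaximal_comap_of_isIntegral_of_isMaximal (maximalIdeal S))
    have := Ideal.map_le_iff_le_comap.2 hcomap.ge
    rw [h, top_le_iff] at this
    exact (maximalIdeal.isMaximal S).ne_top this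
  have hlift : ∀ x : S, ∃ c : R, x - g c ∈ maximalIdeal S := fun x => by
    have hle : maximalIdeal R ≤ RingHom.ker ((residue S).comp g) := fun m hm => by
      rw [RingHom.mem_ker, RingHom.comp_apply, residue_eq_zero_iff]
      exact hloc (Ideal.mem_map_of_mem _ hm)
    let φ : ResidueField R →+* ResidueField S := Ideal.Quotient.lift _ ((residue S).comp g) hle
    letI := φ.toAlgebra
    haveI : Algebra.IsIntegral (ResidueField R) (ResidueField S) := by
      refine ⟨fun y => ?_⟩
      obtain ⟨x, rfl⟩ := Ideal.Quotient.mk_surjective y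
      obtain ⟨p, hp, hpx⟩ := Algebra.IsIntegral.isIntegral (R := R) x
      refine ⟨p.map (residue R), hp.map _, ?_⟩
      show Polynomial.eval₂ φ (residue S x) (p.map (residue R)) = 0
      rw [Polynomial.eval₂_map]
      show Polynomial.eval₂ ((residue S).comp g) (residue S x) p = 0
      rw [← Polynomial.hom_eval₂, hpx, map_zero]
    obtain ⟨y, hy⟩ := IsAlgClosed.algebraMap_bijective_of_isIntegral (k := ResidueField R)
      (K := ResidueField S) |>.2 (residue S x)
    obtain ⟨c, rfl⟩ := Ideal.Quotient.mk_surjective y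
    refine ⟨c, ?_⟩
    rw [← residue_eq_zero_iff, map_sub, ← hy]
    exact sub_self _
  obtain ⟨cu, hcu⟩ := hlift uS
  obtain ⟨cr, hcr⟩ := hlift C.r
  obtain ⟨cs, hcs⟩ := hlift C.s
  obtain ⟨ct, hct⟩ := hlift C.t
  have hcu' : IsUnit cu := by
    by_contra hcu'
    have h1 : g cu ∈ maximalIdeal S := hloc (Ideal.mem_map_of_mem g hcu')
    have h2 : (uS : S) ∈ maximalIdeal S := by simpa using Ideal.add_mem _ hcu h1
    exact h2 uS.isUnit
  let D : VariableChange R := ⟨hcu'.unit, cr, cs, ct⟩
  -- `D` is right on the residue field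
  have hD : (D.map (residue R)) • V.map (residue R) = W.map (residue R) := by
    have hle : maximalIdeal R ≤ RingHom.ker ((residue S).comp g) := fun m hm => by
      rw [RingHom.mem_ker, RingHom.comp_apply, residue_eq_zero_iff]
      exact hloc (Ideal.mem_map_of_mem _ hm)
    let φ : ResidueField R →+* ResidueField S := Ideal.Quotient.lift _ ((residue S).comp g) hle
    apply WeierstrassCurve.map_injective (f := φ) φ.injective
    have h1 := congrArg (fun X : WeierstrassCurve S => X.map (residue S)) hC
    simp only [← WeierstrassCurve.map_variableChange] at h1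
    show ((D.map (residue R)) • V.map (residue R)).map φ = (W.map (residue R)).map φ
    rw [← WeierstrassCurve.map_variableChange]
    simp only [WeierstrassCurve.map_map] at h1 ⊢
    have hφ : φ.comp (residue R) = (residue S).comp g := Ideal.Quotient.lift_comp_mk _ _ _
    rw [hφ, ← h1]
    congr 1
    have e : ∀ {x : S} {c : R}, x - g c ∈ maximalIdeal S → φ (residue R c) = residue S x := fun {x c} hx => by
      rw [← residue_eq_zero_iff, map_sub, sub_eq_zero] at hx
      exact hx.symm
    ext
    · exact e hcu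
    · exact e hcr
    · exact e hcs
    · exact e hct
  -- compare modulo `m S`
  let J : Ideal S := (maximalIdeal R).map g
  have hJ : J ≠ ⊤ := fun h => (maximalIdeal.isMaximal S).ne_top (top_unique (h ▸ hloc))
  haveI : Nontrivial (S ⧸ J) := Ideal.Quotient.nontrivial_iff.2 hJ
  let q := Ideal.Quotient.mk J
  haveI : IsLocalRing (S ⧸ J) := IsLocalRing.of_surjective' q Ideal.Quotient.mk_surjective
  let h : R →+* S ⧸ J := q.comp g
  let ψ : ResidueField R →+* S ⧸ J := Ideal.Quotient.lift _ h fun m hm =>
    Ideal.Quotient.eq_zero_iff_mem.2 (Ideal.mem_map_of_mem g hm)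
  have hψ : ψ.comp (residue R) = h := Ideal.Quotient.lift_comp_mk _ _ _
  have hDh : (D.map h) • V.map h = W.map h := by
    have := congrArg (fun X : WeierstrassCurve (ResidueField R) => X.map ψ) hD
    simp only [← WeierstrassCurve.map_variableChange, WeierstrassCurve.map_map, hψ] at this
    rw [← this]
    congr 1
  have hCh : (C.map q) • V.map h = W.map h := by
    have := congrArg (fun X : WeierstrassCurve S => X.map q) hC
    simpa only [← WeierstrassCurve.map_variableChange, WeierstrassCurve.map_map] using this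
  have hmax : ∀ {x : S}, x ∈ maximalIdeal S → q x ∈ maximalIdeal (S ⧸ J) := fun {x} hx hu' => by
    obtain ⟨y, hy⟩ := Ideal.Quotient.mk_surjective (↑(hu'.unit⁻¹) : S ⧸ J)
    have h1 : q (x * y - 1) = 0 := by rw [map_sub, map_mul, map_one, hy, IsUnit.mul_val_inv, sub_self]
    have h2 := hloc (Ideal.Quotient.eq_zero_iff_mem.1 h1)
    exact (maximalIdeal.isMaximal S).ne_top ((Ideal.eq_top_iff_one _).2
      (by simpa using Ideal.sub_mem _ (Ideal.mul_mem_right y _ hx) h2))
  have hker : (C.map q) * (D.map h)⁻¹ = 1 := by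
    have hfix : ((C.map q) * (D.map h)⁻¹) • W.map h = W.map h := by
      rw [mul_smul, inv_smul_eq_iff.2 hDh.symm, hCh]
    refine eq_one_of_smul_eq (W.map h) _ hfix ?_ ?_ ?_ ?_
    · have hi : h cu * ((Units.map h.toMonoidHom D.u)⁻¹ : (S ⧸ J)ˣ) = 1 :=
        Units.mul_inv (Units.map h.toMonoidHom D.u)
      have := Ideal.mul_mem_right ((Units.map h.toMonoidHom D.u)⁻¹ : (S ⧸ J)ˣ).val _ (hmax hcu)
      rw [map_sub, sub_mul] at this
      convert this using 1
      show q (uS : S) * ((Units.map h.toMonoidHom D.u)⁻¹ : (S ⧸ J)ˣ).val - 1 = _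
      rw [← hi]
      rfl
    · simp only [VariableChange.mul_def, VariableChange.inv_def, VariableChange.map]
      have := Ideal.mul_mem_right (((Units.map h.toMonoidHom D.u)⁻¹ : (S ⧸ J)ˣ).val ^ 2) _ (hmax hcr)
      rw [map_sub] at this
      convert this using 1
      exact (fun a b w => by ring : ∀ a b w : S ⧸ J, a * w ^ 2 + -b * w ^ 2 = (a - b) * w ^ 2) _ _ _
    · simp only [VariableChange.mul_def, VariableChange.inv_def, VariableChange.map]
      have := Ideal.mul_mem_right ((Units.map h.toMonoidHom D.u)⁻¹ : (S ⧸ J)ˣ).val _ (hmax hcs)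
      rw [map_sub] at this
      convert this using 1
      exact (fun a b w => by ring : ∀ a b w : S ⧸ J, w * a + -b * w = (a - b) * w) _ _ _
    · simp only [VariableChange.mul_def, VariableChange.inv_def, VariableChange.map]
      let w : S ⧸ J := ((Units.map h.toMonoidHom D.u)⁻¹ : (S ⧸ J)ˣ).val
      have h1 := Ideal.mul_mem_right (w ^ 3) _ (hmax hct)
      have h2 := Ideal.mul_mem_right (h cs * w ^ 3) _ (hmax hcr)
      rw [map_sub] at h1 h2
      convert Ideal.sub_mem _ h1 h2 using 1
      exact (fun a b c d e w => by ring : ∀ a b c d e w : S ⧸ J,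
        a * w ^ 3 + b * (-c * w) * w ^ 2 + (d * c - e) * w ^ 3 = (a - e) * w ^ 3 - (b - d) * (c * w ^ 3)) _ _ _ _ _ _
  have hCD : C.map q = D.map h := mul_inv_eq_one.1 hker
  -- so `S = R`
  have htop : (⊤ : Subalgebra R S) = ⊥ := by
    have hmem : ∀ {x : S} {c : R}, q x = h c → x ∈ LinearMap.range (Algebra.linearMap R S) ⊔
        maximalIdeal R • (⊤ : Submodule R S) := fun {x c} hxc => by
      have h1 : x - g c ∈ J := by
        rw [← Ideal.Quotient.eq_zero_iff_mem, map_sub, sub_eq_zero]
        exact hxc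
      rw [Ideal.smul_top_eq_map]
      exact Submodule.mem_sup.2 ⟨g c, ⟨c, rfl⟩, x - g c, h1, by ring⟩
    let P : Submodule R S := LinearMap.range (Algebra.linearMap R S) ⊔ maximalIdeal R • (⊤ : Submodule R S)
    have hgen : Algebra.adjoin R ((fun x : S => (x : K)) ⁻¹' G) = ⊤ := Algebra.adjoin_adjoin_coe_preimage
    have hP1 : (1 : S) ∈ P := Submodule.mem_sup_left ⟨1, map_one g⟩
    have hPmul : ∀ {x y : S}, x ∈ P → y ∈ P → x * y ∈ P := fun {x y} hx hy => by
      simp only [P, Ideal.smul_top_eq_map] at hx hy ⊢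
      obtain ⟨_, ⟨a, rfl⟩, j, hj', rfl⟩ := Submodule.mem_sup.1 hx
      obtain ⟨_, ⟨b, rfl⟩, l, hl, rfl⟩ := Submodule.mem_sup.1 hy
      refine Submodule.mem_sup.2 ⟨g (a * b), ⟨a * b, rfl⟩, g a * l + j * (g b + l), ?_, ?_⟩
      · exact Ideal.add_mem _ (Ideal.mul_mem_left _ _ hl) (Ideal.mul_mem_right _ _ hj')
      · show g (a * b) + (g a * l + j * (g b + l)) = (g a + j) * (g b + l)
        rw [map_mul]; ring
    have hP : (⊤ : Submodule R S) ≤ P := fun x hxtop => by
      clear hxtop
      have hx : x ∈ Algebra.adjoin R ((fun x : S => (x : K)) ⁻¹' G) := hgen ▸ Algebra.mem_top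
      induction hx using Algebra.adjoin_induction with
      | mem y hy =>
        simp only [G, Set.mem_preimage, Set.mem_insert_iff, Set.mem_singleton_iff] at hy
        rcases hy with hy | hy | hy | hy | hy
        · exact hmem (c := cu) (by rw [show y = (uS : S) from Subtype.ext hy]
                                   exact congrArg (fun X : VariableChange (S ⧸ J) => (X.u : S ⧸ J)) hCD)
        · refine hmem (c := ↑(hcu'.unit⁻¹)) ?_
          rw [show y = ((uS⁻¹ : Sˣ) : S) from Subtype.ext hy]
          exact congrArg (fun X : VariableChange (S ⧸ J) => ((X.u⁻¹ : (S ⧸ J)ˣ) : S ⧸ J)) hCD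
        · exact hmem (c := cr) (by rw [show y = C.r from Subtype.ext hy]; exact congrArg VariableChange.r hCD)
        · exact hmem (c := cs) (by rw [show y = C.s from Subtype.ext hy]; exact congrArg VariableChange.s hCD)
        · exact hmem (c := ct) (by rw [show y = C.t from Subtype.ext hy]; exact congrArg VariableChange.t hCD)
      | algebraMap r => exact Submodule.mem_sup_left ⟨r, rfl⟩
      | add y z _ _ hy hz => exact P.add_mem hy hz
      | mul y z _ _ hy hz => exact hPmul hy hz
    have hfin := Submodule.le_of_le_smul_of_le_jacobson_bot (Module.Finite.fg_top) (maximalIdeal_le_jacobson _) hP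
    refine le_antisymm (fun x _ => ?_) bot_le
    obtain ⟨c, hc⟩ := hfin (Submodule.mem_top (x := x))
    exact Algebra.mem_bot.2 ⟨c, hc⟩
  have hsurj : Function.Surjective g := fun x => Algebra.mem_bot.1 (htop ▸ Algebra.mem_top)
  let e : R ≃+* S := RingEquiv.ofBijective g ⟨fun a b hab => hf (congrArg Subtype.val hab), hsurj⟩
  refine ⟨C.map e.symm.toRingHom, ?_⟩
  have := congrArg (fun X : WeierstrassCurve S => X.map e.symm.toRingHom) hC
  simp only [← WeierstrassCurve.map_variableChange, WeierstrassCurve.map_map] at this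
  have he : e.symm.toRingHom.comp g = RingHom.id R := RingHom.ext fun r => e.symm_apply_apply r
  rw [he, WeierstrassCurve.map_id, WeierstrassCurve.map_id] at this
  exact this

end Groth.Agent.WeierIsom
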