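import Mathlib

/-!
Two Weierstrass curves with the same `j`, away from `0` and `1728`, are etale locally isomorphic.
-/

set_option autoImplicit false
set_option linter.style.haveILetI false

open MvPolynomial

namespace Groth.Agent.WeierIsom

universe u

/-- Etale neighbourhood from a point of a square system with invertible Jacobian. -/
theorem exists_etale_of_point {A : Type u} [CommRing A] {n : ℕ} (F : Fin n → MvPolynomial (Fin n) A)
    (g : MvPolynomial (Fin n) A) {K : Type u} [Field K] [Algebra A K] (x : Fin n → K)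
    (hx : ∀ i, aeval x (F i) = 0)
    (hj : aeval x (Matrix.det (Matrix.of fun i j => pderiv i (F j))) ≠ 0) (hg : aeval x g ≠ 0) :
    ∃ (B : Type u) (_ : CommRing B) (_ : Algebra A B) (y : Fin n → B), Algebra.Etale A B ∧
      (∀ i, aeval y (F i) = 0) ∧ IsUnit (aeval y g) ∧ Nonempty (B →ₐ[A] K) := by
  let S := MvPolynomial (Fin n) A ⧸ Ideal.span (Set.range F)
  let P := Algebra.PreSubmersivePresentation.naive (R := A) (v := F) (id : Fin n → Fin n) Function.injective_id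
  let jac : MvPolynomial (Fin n) A := Matrix.det (Matrix.of fun i j => pderiv i (F j))
  have hjac : P.jacobian = Ideal.Quotient.mk (Ideal.span (Set.range F)) jac := by
    rw [Algebra.PreSubmersivePresentation.jacobian_eq_jacobiMatrix_det]
    show (Ideal.Quotient.mk (Ideal.span (Set.range F))) _ = _
    congr 2
    ext i j
    simp [P]
  let r : S := Ideal.Quotient.mk (Ideal.span (Set.range F)) (jac * g)
  let T := Localization.Away r
  let Q := (Algebra.SubmersivePresentation.localizationAway T r).toPreSubmersivePresentation.comp P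
  have hr : IsUnit (algebraMap S T (Ideal.Quotient.mk _ jac)) ∧ IsUnit (algebraMap S T (Ideal.Quotient.mk _ g)) := by
    have := IsLocalization.Away.algebraMap_isUnit (S := T) r
    have h2 : algebraMap S T r = algebraMap S T (Ideal.Quotient.mk _ jac) * algebraMap S T (Ideal.Quotient.mk _ g) := by
      rw [← map_mul, ← map_mul]
    exact IsUnit.mul_iff.1 (h2 ▸ this)
  have hQ : IsUnit Q.jacobian := by
    rw [Algebra.PreSubmersivePresentation.comp_jacobian_eq_jacobian_smul_jacobian, Algebra.smul_def, hjac]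
    exact hr.1.mul (Algebra.SubmersivePresentation.localizationAway T r).jacobian_isUnit
  have hdim : Q.dimension = 0 := by
    simp [Algebra.Presentation.dimension, Nat.card_eq_fintype_card]
  haveI : Algebra.IsStandardSmoothOfRelativeDimension 0 A T :=
    Algebra.SubmersivePresentation.isStandardSmoothOfRelativeDimension ⟨Q, hQ⟩ hdim
  haveI het : Algebra.Etale A T := Algebra.Etale.iff_isStandardSmoothOfRelativeDimension_zero.2 inferInstance
  let π : MvPolynomial (Fin n) A →ₐ[A] T :=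
    (IsScalarTower.toAlgHom A S T).comp (Ideal.Quotient.mkₐ A (Ideal.span (Set.range F)))
  have hπ : aeval (fun i => π (X i)) = π := by ext i; simp
  let ψ₀ : S →ₐ[A] K := Ideal.Quotient.liftₐ _ (aeval x) fun a ha => by
    refine (Ideal.span_le.mpr ?_ : _ ≤ RingHom.ker (aeval (R := A) x)) ha
    rintro _ ⟨i, rfl⟩
    exact hx i
  have hr0 : IsUnit (ψ₀ r) := by
    rw [isUnit_iff_ne_zero]
    show aeval x (jac * g) ≠ 0
    rw [map_mul]
    exact mul_ne_zero hj hg
  let ψ : T →ₐ[A] K := IsLocalization.liftAlgHom (M := Submonoid.powers r) (f := ψ₀) fun y => by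
    obtain ⟨k, hk⟩ := y.2
    rw [← hk, map_pow]
    exact hr0.pow k
  refine ⟨T, inferInstance, inferInstance, fun i => π (X i), het, fun i => ?_, ?_, ⟨ψ⟩⟩
  · rw [hπ]
    show algebraMap S T (Ideal.Quotient.mk _ (F i)) = 0
    rw [Ideal.Quotient.eq_zero_iff_mem.2 (Ideal.subset_span (Set.mem_range_self i)), map_zero]
  · rw [hπ]
    exact hr.2

variable {A : Type u} [CommRing A]

/-- The equations saying that a change of variables takes `a₁, …, a₄` of `V` to those of `W`. -/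
noncomputable def eqns (V W : WeierstrassCurve A) : Fin 4 → MvPolynomial (Fin 4) A :=
  ![X 0 * C W.a₁ - (C V.a₁ + C 2 * X 2),
    X 0 ^ 2 * C W.a₂ - (C V.a₂ - X 2 * C V.a₁ + C 3 * X 1 - X 2 ^ 2),
    X 0 ^ 3 * C W.a₃ - (C V.a₃ + X 1 * C V.a₁ + C 2 * X 3),
    X 0 ^ 4 * C W.a₄ - (C V.a₄ - X 2 * C V.a₃ + C 2 * X 1 * C V.a₂ - (X 3 + X 1 * X 2) * C V.a₁ + C 3 * X 1 ^ 2
      - C 2 * X 2 * X 3)]

/-- The function whose invertibility forces agreement of `a₆`. -/
noncomputable def extra (V W : WeierstrassCurve A) : MvPolynomial (Fin 4) A :=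
  X 0 * (X 0 ^ 6 * C W.c₆ - C 432 * (C V.a₆ + X 1 * C V.a₄ + X 1 ^ 2 * C V.a₂ + X 1 ^ 3 - X 3 * C V.a₃
    - X 3 ^ 2 - X 1 * X 3 * C V.a₁ - X 0 ^ 6 * C W.a₆))

theorem eqns_zero {B : Type u} [CommRing B] [Algebra A B] (V W : WeierstrassCurve A)
    (C₀ : WeierstrassCurve.VariableChange B)
    (h : C₀ • V.map (algebraMap A B) = W.map (algebraMap A B)) (i : Fin 4) :
    aeval ![(C₀.u : B), C₀.r, C₀.s, C₀.t] (eqns V W i) = 0 := by
  have h1 := congrArg WeierstrassCurve.a₁ h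
  have h2 := congrArg WeierstrassCurve.a₂ h
  have h3 := congrArg WeierstrassCurve.a₃ h
  have h4 := congrArg WeierstrassCurve.a₄ h
  simp only [WeierstrassCurve.variableChange_def, WeierstrassCurve.map] at h1 h2 h3 h4
  have hu := C₀.u.mul_inv
  have e : ∀ {k : ℕ} {a b : B}, ((C₀.u⁻¹ : Bˣ) : B) ^ k * a = b → (C₀.u : B) ^ k * b - a = 0 := fun {k a b} hk => by
    rw [← hk, ← mul_assoc, ← mul_pow, hu, one_pow, one_mul, sub_self]
  fin_cases i
  · simpa [eqns, map_ofNat] using (e (k := 1) (by simpa using h1))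
  · simpa [eqns, map_ofNat] using e h2
  · simpa [eqns, map_ofNat] using e h3
  · simpa [eqns, map_ofNat] using e h4

theorem det_eqns {K : Type u} [CommRing K] [Algebra A K] (V W : WeierstrassCurve A) (x : Fin 4 → K)
    (hx : ∀ i, aeval x (eqns V W i) = 0) :
    x 0 * aeval x (Matrix.det (Matrix.of fun i j => pderiv i (eqns V W j))) =
      x 0 ^ 4 * (W.map (algebraMap A K)).c₄ := by
  have e1 := hx 0
  have e2 := hx 1
  have e3 := hx 2
  have e4 := hx 3
  simp [eqns, map_ofNat] at e1 e2 e3 e4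
  set f := algebraMap A K
  have hM : (Matrix.of fun i j => pderiv i (eqns V W j)).map (aeval x) =
      !![f W.a₁, 2 * x 0 * f W.a₂, 3 * x 0 ^ 2 * f W.a₃, 4 * x 0 ^ 3 * f W.a₄;
         0, -3, -f V.a₁, -(2 * f V.a₂ - x 2 * f V.a₁ + 6 * x 1);
         -2, f V.a₁ + 2 * x 2, 0, f V.a₃ + x 1 * f V.a₁ + 2 * x 3;
         0, 0, -2, f V.a₁ + 2 * x 2] := by
    ext i j
    fin_cases i <;> fin_cases j <;> simp [eqns, pderiv_X, f] <;> (try simp [map_ofNat]) <;> ring
  rw [AlgHom.map_det]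
  rw [AlgHom.mapMatrix_apply, hM]
  rw [Matrix.det_succ_row_zero]
  simp [Fin.sum_univ_succ, Matrix.det_fin_three, Fin.succAbove]
  rw [show W.c₄ = (W.a₁ ^ 2 + 4 * W.a₂) ^ 2 - 24 * (2 * W.a₄ + W.a₁ * W.a₃) from rfl]
  simp only [map_sub, map_add, map_mul, map_pow, map_ofNat]
  rw [sub_eq_zero] at e1 e2 e3 e4
  calc _ = (x 0 * f W.a₁) * (-(3 * (f V.a₃ + x 1 * f V.a₁ + 2 * x 3) * 2) +
          f V.a₁ * (f V.a₁ + 2 * x 2) * (f V.a₁ + 2 * x 2) +
          -((-(6 * x 1) + (x 2 * f V.a₁ - 2 * f V.a₂)) * (f V.a₁ + 2 * x 2) * 2)) +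
        (x 0 ^ 2 * f W.a₂) * (-(2 * (-(f V.a₁ * 2 * (f V.a₁ + 2 * x 2)) +
          (-(6 * x 1) + (x 2 * f V.a₁ - 2 * f V.a₂)) * 2 * 2))) +
        (x 0 ^ 3 * f W.a₃) * (-(3 * (-(3 * 2 * (f V.a₁ + 2 * x 2))) * (-1))) +
        (x 0 ^ 4 * f W.a₄) * (-(4 * (3 * 2 * 2))) := by ring
    _ = ((x 0 * f W.a₁) ^ 2 + 4 * (x 0 ^ 2 * f W.a₂)) ^ 2 -
        24 * (2 * (x 0 ^ 4 * f W.a₄) + (x 0 * f W.a₁) * (x 0 ^ 3 * f W.a₃)) := by
      rw [e1, e2, e3, e4]; ring
    _ = _ := by ring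

theorem isUnit_c₄ {R : Type u} [CommRing R] (W : WeierstrassCurve R) [W.IsElliptic] (h0 : IsUnit W.j) :
    IsUnit W.c₄ :=
  (isUnit_pow_iff (by norm_num : 3 ≠ 0)).1 (isUnit_of_mul_isUnit_right h0)

theorem isUnit_c₆ {R : Type u} [CommRing R] (W : WeierstrassCurve R) [W.IsElliptic]
    (h1728 : IsUnit (W.j - 1728)) : IsUnit W.c₆ := by
  refine (isUnit_pow_iff (by norm_num : 2 ≠ 0)).1 ?_
  have : W.c₆ ^ 2 = W.Δ * (W.j - 1728) := by
    rw [WeierstrassCurve.j, ← W.coe_Δ', mul_sub, ← mul_assoc, Units.mul_inv, one_mul, W.coe_Δ']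
    linear_combination W.c_relation
  rw [this]
  exact W.isUnit_Δ.mul h1728

/-- Equal `j` and equal `a₁, …, a₄` force equal `a₆` where `c₆ - 432 δ` is invertible. -/
theorem eq_of_j_eq {R : Type u} [CommRing R] (V W : WeierstrassCurve R) [V.IsElliptic] [W.IsElliptic]
    (hj : V.j = W.j) (h0 : IsUnit W.j) (e1 : V.a₁ = W.a₁) (e2 : V.a₂ = W.a₂) (e3 : V.a₃ = W.a₃)
    (e4 : V.a₄ = W.a₄) (hu : IsUnit (W.c₆ - 432 * (V.a₆ - W.a₆))) : V = W := by
  have hc : V.c₄ = W.c₄ := by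
    simp only [WeierstrassCurve.c₄, WeierstrassCurve.b₂, WeierstrassCurve.b₄, e1, e2, e3, e4]
  have hinv : (↑(V.Δ')⁻¹ : R) = ↑(W.Δ')⁻¹ := by
    have := hj
    rw [WeierstrassCurve.j, WeierstrassCurve.j, hc] at this
    exact ((isUnit_c₄ W h0).pow 3).mul_right_cancel this
  have hΔ : V.Δ = W.Δ := by
    have : V.Δ' = W.Δ' := inv_injective (Units.ext hinv)
    rw [← V.coe_Δ', ← W.coe_Δ', this]
  have h : (W.c₆ - 432 * (V.a₆ - W.a₆)) * (V.a₆ - W.a₆) = 0 := by
    have hd : V.Δ - W.Δ = (W.c₆ - 432 * (V.a₆ - W.a₆)) * (V.a₆ - W.a₆) := by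
      simp only [WeierstrassCurve.Δ, WeierstrassCurve.c₆, WeierstrassCurve.b₂, WeierstrassCurve.b₄,
        WeierstrassCurve.b₆, WeierstrassCurve.b₈, e1, e2, e3, e4]
      ring
    rw [← hd, hΔ, sub_self]
  have e6 : V.a₆ = W.a₆ := sub_eq_zero.1 ((hu.mul_right_eq_zero).1 h)
  exact WeierstrassCurve.ext e1 e2 e3 e4 e6

theorem exists_etale_isom (V W : WeierstrassCurve A) [V.IsElliptic] [W.IsElliptic] (hj : V.j = W.j)
    (h0 : IsUnit V.j) (h1728 : IsUnit (V.j - 1728)) (p : PrimeSpectrum A) :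
    ∃ (B : Type u) (_ : CommRing B) (_ : Algebra A B), Algebra.Etale A B ∧
      p ∈ Set.range (PrimeSpectrum.comap (algebraMap A B)) ∧
      ∃ C₀ : WeierstrassCurve.VariableChange B, C₀ • (V.map (algebraMap A B)) = W.map (algebraMap A B) := by
  let K := SeparableClosure p.asIdeal.ResidueField
  let f := algebraMap A K
  have hker : RingHom.ker f = p.asIdeal := by
    show RingHom.ker ((algebraMap p.asIdeal.ResidueField K).comp (algebraMap A _)) = _
    rw [RingHom.ker_comp_of_injective _ (algebraMap p.asIdeal.ResidueField K).injective,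
      Ideal.ker_algebraMap_residueField]
  have hjK : (V.map f).j = (W.map f).j := by rw [V.map_j, W.map_j, hj]
  obtain ⟨C₁, hC₁⟩ := WeierstrassCurve.exists_variableChange_of_j_eq (V.map f) (W.map f) hjK
  let x : Fin 4 → K := ![(C₁.u : K), C₁.r, C₁.s, C₁.t]
  have hx := eqns_zero (B := K) V W C₁ hC₁
  have hx0 : x 0 ≠ 0 := C₁.u.ne_zero
  have hc4 : (W.map f).c₄ ≠ 0 := by
    rw [W.map_c₄]
    exact ((isUnit_c₄ W (hj ▸ h0)).map f).ne_zero
  have hdet : aeval x (Matrix.det (Matrix.of fun i j => pderiv i (eqns V W j))) ≠ 0 := fun h => by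
    have := det_eqns (K := K) V W x hx
    rw [h, mul_zero] at this
    exact mul_ne_zero (pow_ne_zero 4 hx0) hc4 this.symm
  have hg : aeval x (extra V W) ≠ 0 := by
    have h6 := congrArg WeierstrassCurve.a₆ hC₁
    simp only [WeierstrassCurve.variableChange_def, WeierstrassCurve.map] at h6
    have h6' : f V.a₆ + C₁.r * f V.a₄ + C₁.r ^ 2 * f V.a₂ + C₁.r ^ 3 - C₁.t * f V.a₃ - C₁.t ^ 2
        - C₁.r * C₁.t * f V.a₁ - (C₁.u : K) ^ 6 * f W.a₆ = 0 := by
      rw [← h6, ← mul_assoc, ← mul_pow, C₁.u.mul_inv, one_pow, one_mul, sub_self]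
    have : aeval x (extra V W) = x 0 * (x 0 ^ 6 * f W.c₆) := by
      simp [extra, x, f] at h6' ⊢
      rw [h6']
      simp
    rw [this]
    exact mul_ne_zero hx0 (mul_ne_zero (pow_ne_zero 6 hx0) ((isUnit_c₆ W (hj ▸ h1728)).map f).ne_zero)
  obtain ⟨B, _, _, y, het, hy, hgy, ⟨ψ⟩⟩ := exists_etale_of_point (eqns V W) (extra V W) x hx hdet hg
  refine ⟨B, inferInstance, inferInstance, het, ?_, ?_⟩
  · haveI : (RingHom.ker ψ.toRingHom).IsPrime := RingHom.ker_isPrime _
    refine ⟨⟨RingHom.ker ψ.toRingHom, inferInstance⟩, PrimeSpectrum.ext ?_⟩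
    show Ideal.comap (algebraMap A B) (RingHom.ker ψ.toRingHom) = _
    rw [RingHom.comap_ker]
    erw [ψ.comp_algebraMap]
    exact hker
  · simp only [extra, map_mul, map_sub, map_add, map_pow, aeval_X, aeval_C, map_ofNat] at hgy
    obtain ⟨hu0, hgy⟩ := IsUnit.mul_iff.1 hgy
    obtain ⟨uu, huu⟩ := hu0
    refine ⟨⟨uu, y 1, y 2, y 3⟩, ?_⟩
    let g := algebraMap A B
    have e1 := hy 0
    have e2 := hy 1
    have e3 := hy 2
    have e4 := hy 3
    simp [eqns, map_ofNat, ← huu, sub_eq_zero] at e1 e2 e3 e4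
    rw [← huu] at hgy
    have hi : ((uu⁻¹ : Bˣ) : B) * (uu : B) = 1 := uu.inv_mul
    have hpow : ∀ (k : ℕ) (a b : B), (uu : B) ^ k * b = a → ((uu⁻¹ : Bˣ) : B) ^ k * a = b := fun k a b h => by
      rw [← h, ← mul_assoc, ← mul_pow, hi, one_pow, one_mul]
    refine eq_of_j_eq _ _ ?_ ?_ ?_ ?_ ?_ ?_ ?_
    · rw [WeierstrassCurve.variableChange_j, V.map_j, W.map_j, hj]
    · rw [W.map_j, ← hj]; exact h0.map g
    · simp only [WeierstrassCurve.variableChange_def, WeierstrassCurve.map]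
      simpa using hpow 1 _ _ (by rw [pow_one]; exact e1)
    · simp only [WeierstrassCurve.variableChange_def, WeierstrassCurve.map]
      exact hpow 2 _ _ e2
    · simp only [WeierstrassCurve.variableChange_def, WeierstrassCurve.map]
      exact hpow 3 _ _ e3
    · simp only [WeierstrassCurve.variableChange_def, WeierstrassCurve.map]
      exact hpow 4 _ _ e4
    · have hu6 : IsUnit (((uu⁻¹ : Bˣ) : B) ^ 6) := (uu⁻¹).isUnit.pow 6
      convert hu6.mul hgy using 1
      rw [W.map_c₆]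
      simp only [WeierstrassCurve.variableChange_def, WeierstrassCurve.map]
      have h66 : ((uu⁻¹ : Bˣ) : B) ^ 6 * (uu : B) ^ 6 = 1 := by rw [← mul_pow, hi, one_pow]
      linear_combination (-(algebraMap A B W.c₆) - 432 * algebraMap A B W.a₆) * h66

end Groth.Agent.WeierIsom
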